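import Groth.Prelude.Def_FinFr
import Mathlib.AlgebraicGeometry.Morphisms.Immersion
import Mathlib.AlgebraicGeometry.Noetherian

/-!
# Geometry: compactifications and base change to `K`

* `isPullback_of_dominant`: `f : P' ⟶ P` separated, `j' : X ⟶ P'` a dense open immersion with
  `j' ≫ f = j` an open immersion: then `f⁻¹(X) = X`;
* `exists_common`: two compactifications are dominated by a third one;
* `isPullback_extHom`: the base change square of `X₀ ⟶ P₀` along `Spec K ⟶ Spec k`.
-/

set_option autoImplicit false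
universe u
open CategoryTheory CategoryTheory.Limits AlgebraicGeometry Opposite

namespace Groth.Agent.Sga4h.H407.ExtGeom

section Common

variable {X P P' : Scheme.{u}}

/-- `f⁻¹(X) = X` for a dense open immersion `j'` with `j' ≫ f = j` an open immersion. -/
theorem isPullback_of_dominant (j : X ⟶ P) [IsOpenImmersion j] (j' : X ⟶ P') [IsOpenImmersion j']
    [IsDominant j'] (f : P' ⟶ P) [IsSeparated f] (w : j' ≫ f = j) : IsPullback j' (𝟙 X) f j := by
  have hw : j' ≫ f = 𝟙 X ≫ j := by rw [w, Category.id_comp]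
  let h : X ⟶ pullback f j := pullback.lift j' (𝟙 X) hw
  have e1 : h ≫ pullback.fst f j = j' := pullback.lift_fst _ _ _
  have e2 : h ≫ pullback.snd f j = 𝟙 X := pullback.lift_snd _ _ _
  have ho : IsOpenImmersion h := by
    have : IsOpenImmersion (h ≫ pullback.fst f j) := by rw [e1]; infer_instance
    exact IsOpenImmersion.of_comp h (pullback.fst f j)
  have hf : IsClosedImmersion h := by
    have : IsClosedImmersion (h ≫ pullback.snd f j) := by rw [e2]; infer_instance
    exact IsClosedImmersion.of_comp h (pullback.snd f j)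
  have hclosed : IsClosed (Set.range h) := h.isClosedEmbedding.isClosed_range
  have hdense : Dense (Set.range h) := by
    have hd : Dense (Set.range j') := j'.denseRange
    have h5 : (Set.range h) = (pullback.fst f j) ⁻¹' (Set.range j') := by
      rw [← e1]
      ext x
      constructor
      · rintro ⟨y, rfl⟩
        exact ⟨y, by simp⟩
      · rintro ⟨y, hy⟩
        refine ⟨y, (pullback.fst f j).isOpenEmbedding.injective ?_⟩
        rw [← hy]
        simp
    rw [h5]
    exact hd.preimage (pullback.fst f j).isOpenEmbedding.isOpenMap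
  have hsurj : Surjective h := by
    constructor
    rw [← Set.range_eq_univ]
    exact hclosed.closure_eq ▸ hdense.closure_eq
  have hiso : IsIso h := by
    have : Epi h.base := by
      rw [TopCat.epi_iff_surjective]
      exact hsurj.1
    exact IsOpenImmersion.isIso h
  exact IsPullback.of_iso_pullback ⟨hw⟩ (asIso h) e1 e2

/-- Two compactifications are dominated by a third one. -/
theorem exists_common {S P₁ P₂ : Scheme.{u}} (a₁ : P₁ ⟶ S) [IsProper a₁] (a₂ : P₂ ⟶ S)
    [IsProper a₂] (j₁ : X ⟶ P₁) [IsOpenImmersion j₁] [QuasiCompact j₁] (j₂ : X ⟶ P₂)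
    [IsOpenImmersion j₂] (w : j₁ ≫ a₁ = j₂ ≫ a₂) :
    ∃ (P₃ : Scheme.{u}) (j₃ : X ⟶ P₃) (f₁ : P₃ ⟶ P₁) (f₂ : P₃ ⟶ P₂),
      IsOpenImmersion j₃ ∧ IsDominant j₃ ∧ IsProper f₁ ∧ IsProper f₂ ∧ j₃ ≫ f₁ = j₁ ∧
        j₃ ≫ f₂ = j₂ ∧ f₁ ≫ a₁ = f₂ ≫ a₂ ∧ IsPullback j₃ (𝟙 X) f₁ j₁ ∧
          IsPullback j₃ (𝟙 X) f₂ j₂ := by
  let h : X ⟶ pullback a₁ a₂ := pullback.lift j₁ j₂ w
  have e1 : h ≫ pullback.fst a₁ a₂ = j₁ := pullback.lift_fst _ _ _
  have e2 : h ≫ pullback.snd a₁ a₂ = j₂ := pullback.lift_snd _ _ _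
  have hi : IsImmersion h := by
    have : IsImmersion (h ≫ pullback.fst a₁ a₂) := by rw [e1]; infer_instance
    exact IsImmersion.of_comp h (pullback.fst a₁ a₂)
  have hq : QuasiCompact h := by
    have : QuasiCompact (h ≫ pullback.fst a₁ a₂) := by rw [e1]; infer_instance
    exact QuasiCompact.of_comp h (pullback.fst a₁ a₂)
  have ho : IsOpenImmersion h.toImage := inferInstance
  have hd : IsDominant h.toImage := inferInstance
  have w1 : h.toImage ≫ h.imageι ≫ pullback.fst a₁ a₂ = j₁ := by
    rw [← Category.assoc, h.toImage_imageι, e1]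
  have w2 : h.toImage ≫ h.imageι ≫ pullback.snd a₁ a₂ = j₂ := by
    rw [← Category.assoc, h.toImage_imageι, e2]
  refine ⟨h.image, h.toImage, h.imageι ≫ pullback.fst a₁ a₂, h.imageι ≫ pullback.snd a₁ a₂, ho,
    hd, inferInstance, inferInstance, w1, w2, ?_, isPullback_of_dominant _ _ _ w1,
    isPullback_of_dominant _ _ _ w2⟩
  rw [Category.assoc, Category.assoc, pullback.condition]

end Common

section Ext

open FinFr

variable {k : Type u} [Field k] (K : Type u) [Field K] [Algebra k K]
variable {X₀ P₀ : Scheme.{u}} {b : P₀ ⟶ Spec (CommRingCat.of k)}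

theorem extHom_snd (a : X₀ ⟶ Spec (CommRingCat.of k)) (g : X₀ ⟶ P₀) (w : g ≫ b = a) :
    extHom K a g w ≫ extStr K b = extStr K a :=
  (pullback.lift_snd _ _ _).trans (Category.comp_id _)

/-- The base change square. -/
theorem isPullback_extHom (a : X₀ ⟶ Spec (CommRingCat.of k)) (g : X₀ ⟶ P₀) (w : g ≫ b = a) :
    IsPullback (extHom K a g w) (extπ K a) (extπ K b) g := by
  refine IsPullback.of_right (h₁₂ := extStr K b) (v₁₃ := specι k K) (h₂₂ := b) ?_
    (extHom_fst a g w) (IsPullback.of_hasPullback b (specι k K)).flip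
  rw [extHom_snd, w]
  exact (IsPullback.of_hasPullback a (specι k K)).flip

theorem isOpenImmersion_extHom (a : X₀ ⟶ Spec (CommRingCat.of k)) (g : X₀ ⟶ P₀) (w : g ≫ b = a)
    [IsOpenImmersion g] : IsOpenImmersion (extHom K a g w) :=
  MorphismProperty.of_isPullback (P := @IsOpenImmersion) (isPullback_extHom K a g w).flip
    inferInstance

theorem isProper_extHom (a : X₀ ⟶ Spec (CommRingCat.of k)) (g : X₀ ⟶ P₀) (w : g ≫ b = a)
    [IsProper g] : IsProper (extHom K a g w) :=
  MorphismProperty.of_isPullback (P := @IsProper) (isPullback_extHom K a g w).flip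
    inferInstance

/-- Base change of the square `f⁻¹(X) = X`. -/
theorem isPullback_extHom_step {P₀' : Scheme.{u}} {b' : P₀' ⟶ Spec (CommRingCat.of k)}
    (a : X₀ ⟶ Spec (CommRingCat.of k)) (j : X₀ ⟶ P₀) (w : j ≫ b = a) (j' : X₀ ⟶ P₀')
    (w' : j' ≫ b' = a) (f : P₀' ⟶ P₀) (wf : f ≫ b = b') (h : IsPullback j' (𝟙 X₀) f j) :
    IsPullback (extHom K a j' w') (𝟙 _) (extHom K b' f wf) (extHom K a j w) := by
  have h1 := (isPullback_extHom K a j' w').paste_vert h
  have h2 : IsPullback (extHom K a j' w') (𝟙 _ ≫ extπ K a) (extHom K b' f wf ≫ extπ K b) j := by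
    rw [extHom_fst, Category.id_comp]
    rw [Category.comp_id] at h1
    exact h1
  refine IsPullback.of_bot h2 ?_ (isPullback_extHom K a j w)
  rw [Category.id_comp]
  apply pullback.hom_ext
  · change (extHom K a j' w' ≫ extHom K b' f wf) ≫ extπ K b = extHom K a j w ≫ extπ K b
    rw [Category.assoc, extHom_fst, extHom_fst, ← Category.assoc, extHom_fst, Category.assoc,
      h.w, Category.id_comp]
  · change (extHom K a j' w' ≫ extHom K b' f wf) ≫ extStr K b = extHom K a j w ≫ extStr K b
    rw [Category.assoc, extHom_snd, extHom_snd, extHom_snd]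

end Ext

end Groth.Agent.Sga4h.H407.ExtGeom
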