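import Groth.Agent.Sga4B.HVia

/-!
# Pull back of cohomology classes along a commutative square (generic schemes)

For `g ≫ t = t' ≫ f`:
* `sqH g t t' f w M i : H^i(Y, t⁻¹ M) → H^i(Y', t'⁻¹ f⁻¹ M)`;
* `sqH_map`: natural in `M`;
* `sqH_hpVia`: compatible with endomorphisms `s`, `s'` over the bases;
* `sqH_bijective_iff`: bijective iff `hp g` is;
* `sqEquiv`: the induced additive equivalence `H^i(Y, t⁻¹ M) ≃+ H^i(Y', t'⁻¹ M')` for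
  `θ : f⁻¹ M ≅ M'`.
-/

set_option autoImplicit false
universe u
open CategoryTheory CategoryTheory.Limits AlgebraicGeometry Opposite CategoryTheory.Abelian
open scoped Groth.Agent.Etcore.EtInst

namespace Groth.Agent.Sga4h.H407.SqPull

open Groth.Agent.Etcore Groth.Agent.Etcore.EtInst Groth.Agent.Etcore.HpullCalc
  Groth.Agent.Etcore.PullCoh Groth.Agent.Sga4B.HVia

variable {Y Y' Z Z' : Scheme.{u}}

/-- Pull back of cohomology classes along a commutative square. -/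
noncomputable def sqH (g : Y' ⟶ Y) (t : Y ⟶ Z) (t' : Y' ⟶ Z') (f : Z' ⟶ Z) (w : g ≫ t = t' ≫ f)
    (M : EtCoh.Ab Z) (i : ℕ) :
    HH Y ((EtCoh.pull t).obj M) i →+ HH Y' ((EtCoh.pull t').obj ((EtCoh.pull f).obj M)) i :=
  (HHmap (inv (th t' f (t' ≫ f) rfl M)) i).comp (hpVia g t (t' ≫ f) w M i)

theorem th_sqH (g : Y' ⟶ Y) (t : Y ⟶ Z) (t' : Y' ⟶ Z') (f : Z' ⟶ Z) (w : g ≫ t = t' ≫ f)
    (M : EtCoh.Ab Z) (i : ℕ) (x : HH Y ((EtCoh.pull t).obj M) i) :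
    HHmap (th t' f (t' ≫ f) rfl M) i (sqH g t t' f w M i x) = hpVia g t (t' ≫ f) w M i x := by
  rw [sqH, AddMonoidHom.comp_apply, ← HHmap_comp, IsIso.inv_hom_id, HHmap_id]

theorem eq_sqH_iff (g : Y' ⟶ Y) (t : Y ⟶ Z) (t' : Y' ⟶ Z') (f : Z' ⟶ Z) (w : g ≫ t = t' ≫ f)
    (M : EtCoh.Ab Z) (i : ℕ) (x : HH Y ((EtCoh.pull t).obj M) i)
    (y : HH Y' ((EtCoh.pull t').obj ((EtCoh.pull f).obj M)) i) :
    y = sqH g t t' f w M i x ↔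
      HHmap (th t' f (t' ≫ f) rfl M) i y = hpVia g t (t' ≫ f) w M i x := by
  rw [← th_sqH]
  exact (th_bijective t' f (t' ≫ f) rfl M i).1.eq_iff.symm

/-- The pull back map is natural. -/
theorem sqH_map (g : Y' ⟶ Y) (t : Y ⟶ Z) (t' : Y' ⟶ Z') (f : Z' ⟶ Z) (w : g ≫ t = t' ≫ f)
    {M M' : EtCoh.Ab Z} (φ : M ⟶ M') (i : ℕ) (x : HH Y ((EtCoh.pull t).obj M) i) :
    sqH g t t' f w M' i (HHmap ((EtCoh.pull t).map φ) i x) =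
      HHmap ((EtCoh.pull t').map ((EtCoh.pull f).map φ)) i (sqH g t t' f w M i x) := by
  symm
  rw [eq_sqH_iff, ← HHmap_comp, th_nat, HHmap_comp, th_sqH, hpVia_map]

/-- The pull back map is compatible with endomorphisms over the bases. -/
theorem sqH_hpVia (g : Y' ⟶ Y) (t : Y ⟶ Z) (t' : Y' ⟶ Z') (f : Z' ⟶ Z) (w : g ≫ t = t' ≫ f)
    (s : Y ⟶ Y) (hs : s ≫ t = t) (s' : Y' ⟶ Y') (hs' : s' ≫ t' = t') (hg : s' ≫ g = g ≫ s)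
    (M : EtCoh.Ab Z) (i : ℕ) (x : HH Y ((EtCoh.pull t).obj M) i) :
    hpVia s' t' t' hs' ((EtCoh.pull f).obj M) i (sqH g t t' f w M i x) =
      sqH g t t' f w M i (hpVia s t t hs M i x) := by
  have h1 : s' ≫ t' ≫ f = t' ≫ f := by rw [← Category.assoc, hs']
  have h2 : (s' ≫ g) ≫ t = t' ≫ f := by rw [Category.assoc, w, h1]
  rw [eq_sqH_iff, hpVia_conv s' t' f t' (t' ≫ f) (t' ≫ f) hs' rfl h1 rfl, th_sqH,
    hpVia_comp s' g t (s' ≫ g) (t' ≫ f) (t' ≫ f) rfl w h1 h2,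
    hpVia_comp g s t (s' ≫ g) t (t' ≫ f) hg.symm hs w h2]

theorem sqH_bijective_iff (g : Y' ⟶ Y) (t : Y ⟶ Z) (t' : Y' ⟶ Z') (f : Z' ⟶ Z)
    (w : g ≫ t = t' ≫ f) (M : EtCoh.Ab Z) (i : ℕ) :
    Function.Bijective (sqH g t t' f w M i) ↔
      Function.Bijective (hp g ((EtCoh.pull t).obj M) i) := by
  rw [← bijective_hpVia_iff g t (t' ≫ f) w, sqH, AddMonoidHom.coe_comp]
  exact Function.Bijective.of_comp_iff' (HHmap_bijective _ _) _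

/-- Composition of squares. -/
theorem sqH_comp {Y'' Z'' : Scheme.{u}} (g : Y' ⟶ Y) (t : Y ⟶ Z) (t' : Y' ⟶ Z') (f : Z' ⟶ Z)
    (w : g ≫ t = t' ≫ f) (g' : Y'' ⟶ Y') (t'' : Y'' ⟶ Z'') (f' : Z'' ⟶ Z')
    (w' : g' ≫ t' = t'' ≫ f') (g₂ : Y'' ⟶ Y) (f₂ : Z'' ⟶ Z) (w₂ : g₂ ≫ t = t'' ≫ f₂)
    (hg : g' ≫ g = g₂) (hf : f' ≫ f = f₂)
    (M : EtCoh.Ab Z) (i : ℕ) (x : HH Y ((EtCoh.pull t).obj M) i) :
    HHmap ((EtCoh.pull t'').map (th f' f f₂ hf M)) i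
      (sqH g' t' t'' f' w' ((EtCoh.pull f).obj M) i (sqH g t t' f w M i x)) =
    sqH g₂ t t'' f₂ w₂ M i x := by
  subst hg hf
  rw [eq_sqH_iff, ← HHmap_comp, th_assoc t'' f' f (t'' ≫ f') (f' ≫ f) (t'' ≫ f' ≫ f) rfl rfl rfl
    (Category.assoc _ _ _), HHmap_comp, th_sqH]
  have h1 : g' ≫ t' ≫ f = t'' ≫ f' ≫ f := by rw [← Category.assoc, w', Category.assoc]
  rw [hpVia_conv g' t' f (t'' ≫ f') (t' ≫ f) (t'' ≫ f' ≫ f) w' rfl h1 (Category.assoc _ _ _),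
    th_sqH, hpVia_comp g' g t (g' ≫ g) (t' ≫ f) (t'' ≫ f' ≫ f) rfl w h1 w₂]

/-- The pull back map, followed by `θ : f⁻¹ M ⟶ M'`. -/
noncomputable def sqθ (g : Y' ⟶ Y) (t : Y ⟶ Z) (t' : Y' ⟶ Z') (f : Z' ⟶ Z) (w : g ≫ t = t' ≫ f)
    {M : EtCoh.Ab Z} {M' : EtCoh.Ab Z'} (θ : (EtCoh.pull f).obj M ⟶ M') (i : ℕ) :
    HH Y ((EtCoh.pull t).obj M) i →+ HH Y' ((EtCoh.pull t').obj M') i :=
  (HHmap ((EtCoh.pull t').map θ) i).comp (sqH g t t' f w M i)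

theorem sqθ_apply (g : Y' ⟶ Y) (t : Y ⟶ Z) (t' : Y' ⟶ Z') (f : Z' ⟶ Z) (w : g ≫ t = t' ≫ f)
    {M : EtCoh.Ab Z} {M' : EtCoh.Ab Z'} (θ : (EtCoh.pull f).obj M ⟶ M') (i : ℕ)
    (x : HH Y ((EtCoh.pull t).obj M) i) :
    sqθ g t t' f w θ i x = HHmap ((EtCoh.pull t').map θ) i (sqH g t t' f w M i x) := rfl

/-- Naturality of `sqθ`. -/
theorem sqθ_map (g : Y' ⟶ Y) (t : Y ⟶ Z) (t' : Y' ⟶ Z') (f : Z' ⟶ Z) (w : g ≫ t = t' ≫ f)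
    {M N : EtCoh.Ab Z} {M' N' : EtCoh.Ab Z'} (θ : (EtCoh.pull f).obj M ⟶ M')
    (η : (EtCoh.pull f).obj N ⟶ N') (a : M ⟶ N) (a' : M' ⟶ N')
    (ha : (EtCoh.pull f).map a ≫ η = θ ≫ a') (i : ℕ) (x : HH Y ((EtCoh.pull t).obj M) i) :
    sqθ g t t' f w η i (HHmap ((EtCoh.pull t).map a) i x) =
      HHmap ((EtCoh.pull t').map a') i (sqθ g t t' f w θ i x) := by
  rw [sqθ_apply, sqθ_apply, sqH_map, ← HHmap_comp, ← HHmap_comp, ← Functor.map_comp,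
    ← Functor.map_comp, ha]

/-- `sqθ` is compatible with endomorphisms over the bases. -/
theorem sqθ_hpVia (g : Y' ⟶ Y) (t : Y ⟶ Z) (t' : Y' ⟶ Z') (f : Z' ⟶ Z) (w : g ≫ t = t' ≫ f)
    (s : Y ⟶ Y) (hs : s ≫ t = t) (s' : Y' ⟶ Y') (hs' : s' ≫ t' = t') (hg : s' ≫ g = g ≫ s)
    {M : EtCoh.Ab Z} {M' : EtCoh.Ab Z'} (θ : (EtCoh.pull f).obj M ⟶ M') (i : ℕ)
    (x : HH Y ((EtCoh.pull t).obj M) i) :
    sqθ g t t' f w θ i (hpVia s t t hs M i x) =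
      hpVia s' t' t' hs' M' i (sqθ g t t' f w θ i x) := by
  rw [sqθ_apply, sqθ_apply, hpVia_map, sqH_hpVia g t t' f w s hs s' hs' hg]

theorem sqθ_bijective (g : Y' ⟶ Y) (t : Y ⟶ Z) (t' : Y' ⟶ Z') (f : Z' ⟶ Z) (w : g ≫ t = t' ≫ f)
    {M : EtCoh.Ab Z} {M' : EtCoh.Ab Z'} (θ : (EtCoh.pull f).obj M ⟶ M') [IsIso θ] (i : ℕ)
    (hb : Function.Bijective (hp g ((EtCoh.pull t).obj M) i)) :
    Function.Bijective (sqθ g t t' f w θ i) := by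
  rw [sqθ, AddMonoidHom.coe_comp]
  exact (HHmap_bijective _ _).comp ((sqH_bijective_iff g t t' f w M i).2 hb)

/-- Bijectivity of `hp` is invariant under isomorphisms of sheaves. -/
theorem hp_bijective_of_iso (g : Y' ⟶ Y) {A B : EtCoh.Ab Y} (α : A ≅ B) (i : ℕ)
    (h : Function.Bijective (hp g A i)) : Function.Bijective (hp g B i) := by
  have h1 : ⇑(hp g B i) ∘ ⇑(HHmap α.hom i) = ⇑(HHmap ((EtCoh.pull g).map α.hom) i) ∘ ⇑(hp g A i) :=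
    funext fun x => hp_map g α.hom i x
  have h2 : Function.Bijective (⇑(hp g B i) ∘ ⇑(HHmap α.hom i)) := by
    rw [h1]
    exact (HHmap_bijective _ _).comp h
  exact (Function.Bijective.of_comp_iff _ (HHmap_bijective α.hom i)).1 h2

end Groth.Agent.Sga4h.H407.SqPull
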