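import Groth.Prelude.Def_EtLam
import Groth.Agent.Sga4h.H407.SqPull

/-!
# Pull back along a commutative square as a linear equivalence on `EtCoh.H`
(the only place where `HH` is converted into `EtCoh.H`)
-/

set_option autoImplicit false
universe u
open CategoryTheory CategoryTheory.Limits AlgebraicGeometry Opposite CategoryTheory.Abelian
open scoped Groth.Agent.Etcore.EtInst

namespace Groth.Agent.Sga4h.H407.SqLin

open Groth.Agent.Etcore Groth.Agent.Etcore.EtInst Groth.Agent.Etcore.HpullCalc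
  Groth.Agent.Etcore.PullCoh Groth.Agent.Sga4B.HVia Groth.Agent.Sga4h.H407.SqPull

variable {Y Y' Z Z' : Scheme.{u}} {Λ : Type} [CommRing Λ]

/-- The `Λ`-linear equivalence `H^i(Y, t⁻¹ L) ≃ H^i(Y', t'⁻¹ L')`, as a relation with `sqθ`. -/
theorem exists_linEquiv (g : Y' ⟶ Y) (t : Y ⟶ Z) (t' : Y' ⟶ Z') (f : Z' ⟶ Z)
    (w : g ≫ t = t' ≫ f) {L : EtLam.Sheaf Λ Z} {L' : EtLam.Sheaf Λ Z'}
    (θ : (EtCoh.pull f).obj L.carrier ⟶ L'.carrier) [IsIso θ]
    (hθ : ∀ r : Λ, (EtCoh.pull f).map (L.act r) ≫ θ = θ ≫ L'.act r) (i : ℕ)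
    (hb : Function.Bijective (hp g ((EtCoh.pull t).obj L.carrier) i)) :
    ∃ e : EtCoh.H Y (EtLam.pullback t L).carrier i ≃ₗ[Λ]
        EtCoh.H Y' (EtLam.pullback t' L').carrier i,
      ∀ (s : Y ⟶ Y) (hs : s ≫ t = t) (s' : Y' ⟶ Y') (hs' : s' ≫ t' = t')
        (_ : s' ≫ g = g ≫ s) (x : EtCoh.H Y (EtLam.pullback t L).carrier i),
        e (EtCore.HpullVia s t t hs L.carrier i x) =
          EtCore.HpullVia s' t' t' hs' L'.carrier i (e x) := by
  have h1 := fun (r : Λ) (x : HH Y ((EtCoh.pull t).obj L.carrier) i) =>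
    sqθ_map g t t' f w θ θ (L.act r) (L'.act r) (hθ r) i x
  have h2 := fun (s : Y ⟶ Y) (hs : s ≫ t = t) (s' : Y' ⟶ Y') (hs' : s' ≫ t' = t')
    (hg : s' ≫ g = g ≫ s) => sqθ_hpVia g t t' f w s hs s' hs' hg θ i
  have h3 := sqθ_bijective g t t' f w θ i hb
  generalize sqθ g t t' f w θ i = φ at h1 h2 h3
  exact ⟨LinearEquiv.ofBijective (M := EtCoh.H Y (EtLam.pullback t L).carrier i)
    (M₂ := EtCoh.H Y' (EtLam.pullback t' L').carrier i)
    { toFun := φ, map_add' := map_add φ, map_smul' := h1 } h3, h2⟩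

end Groth.Agent.Sga4h.H407.SqLin
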