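import Mathlib.NumberTheory.LegendreSymbol.AddCharacter
import Mathlib.NumberTheory.MulChar.Basic
import Mathlib.FieldTheory.Finite.Basic
import Mathlib.FieldTheory.SplittingField.Construction

/-!
# A finite extension of a finite field carrying a nontrivial additive character
-/

set_option autoImplicit false

namespace Groth.Agent.Sga4h.H407.CoeffAlg

/-- `Λ` finite with characteristic invertible in the finite field `k`: after a finite extension of
`Λ` there is a nontrivial additive character of `k` with values in `Λ`. -/
theorem exists_addChar {k : Type*} [Field k] [Finite k] (Λ : Type) [Field Λ] [Finite Λ]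
    (hΛ : (ringChar Λ : k) ≠ 0) :
    ∃ (Λ₂ : Type) (_ : Field Λ₂) (_ : Finite Λ₂) (_ : Algebra Λ Λ₂) (ψ : AddChar k Λ₂),
      (ringChar Λ₂ : k) ≠ 0 ∧ ψ ≠ 1 := by
  have h : ringChar Λ ≠ ringChar k := by
    intro h
    rw [h] at hΛ
    exact hΛ (ringChar.Nat.cast_ringChar)
  let c := AddChar.FiniteField.primitiveChar k Λ h
  have hfd : FiniteDimensional Λ (CyclotomicField c.n Λ) :=
    inferInstanceAs (FiniteDimensional Λ (Polynomial.cyclotomic c.n Λ).SplittingField)
  have hfin : Finite (CyclotomicField c.n Λ) := Module.finite_of_finite Λ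
  refine ⟨CyclotomicField c.n Λ, inferInstance, hfin, inferInstance, c.char, ?_, ?_⟩
  · rwa [← Algebra.ringChar_eq Λ (CyclotomicField c.n Λ)]
  · intro h1
    have h2 := c.prim (one_ne_zero)
    apply h2
    rw [AddChar.mulShift_one, h1]

end Groth.Agent.Sga4h.H407.CoeffAlg
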