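import Groth.Prelude.Def_LangSh
import Groth.Agent.Sga4h.H912.CoeffFrob
import Groth.Agent.Sga4h.H407.CoeffAlg

/-!
# Extension of coefficients for character sheaves

`Λ ⊂ Λ₂` finite free.
* `isExtSh_constLam`: `Λ_Y ⊗_Λ Λ₂ = (Λ₂)_Y`;
* `isConstOn_of_isExtSh`: `IsConstOn π L → IsConstOn π L₂` for `L₂ = L ⊗_Λ Λ₂`;
* `hasTraceFun_of_isExtSh`;
* `exists_kumFam`: a `Λ₂`-sheaf `L₂` with `IsKumFamSheaf` for the extended characters and with the same
  cohomology dimensions.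
-/

set_option autoImplicit false
universe u
open CategoryTheory CategoryTheory.Limits AlgebraicGeometry Opposite

namespace Groth.Agent.Sga4h.H407.CoeffKum

open Groth.Agent.Sga4h.H912.CoeffExt Groth.Agent.Sga4h.H912.CoeffSheaf
  Groth.Agent.Sga4h.H912.CoeffFrob

section Const

variable {Λ Λ₂ : Type} [CommRing Λ] [CommRing Λ₂] [Algebra Λ Λ₂]

/-- Multiplication by `r` on `ULift Λ`. -/
noncomputable abbrev mulHom (Λ : Type) [CommRing Λ] (r : Λ) :
    AddCommGrpCat.of (ULift.{u + 1} Λ) ⟶ AddCommGrpCat.of (ULift.{u + 1} Λ) :=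
  AddCommGrpCat.ofHom (DistribSMul.toAddMonoidHom (ULift.{u + 1} Λ) r)

/-- `Λ ⟶ Λ₂` on `ULift`. -/
def algHom (Λ Λ₂ : Type) [CommRing Λ] [CommRing Λ₂] [Algebra Λ Λ₂] :
    AddCommGrpCat.of (ULift.{u + 1} Λ) ⟶ AddCommGrpCat.of (ULift.{u + 1} Λ₂) :=
  AddCommGrpCat.ofHom
    { toFun := fun x => ULift.up (algebraMap Λ Λ₂ x.down)
      map_zero' := by simp; rfl
      map_add' := fun x y => by simp; rfl }

/-- The coordinates of `Λ₂` over `Λ`. -/
noncomputable def coordHom {d : ℕ} (b : Module.Basis (Fin d) Λ Λ₂) (i : Fin d) :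
    AddCommGrpCat.of (ULift.{u + 1} Λ₂) ⟶ AddCommGrpCat.of (ULift.{u + 1} Λ) :=
  AddCommGrpCat.ofHom
    { toFun := fun x => ULift.up (b.repr x.down i)
      map_zero' := by simp; rfl
      map_add' := fun x y => by simp; rfl }

theorem mulHom_apply (r : Λ) (x : ULift.{u + 1} Λ) :
    (mulHom.{u} Λ r).hom x = ULift.up (r * x.down) := rfl

theorem algHom_apply (x : ULift.{u + 1} Λ) :
    (algHom.{u} Λ Λ₂).hom x = ULift.up (algebraMap Λ Λ₂ x.down) := rfl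

theorem coordHom_apply {d : ℕ} (b : Module.Basis (Fin d) Λ Λ₂) (i : Fin d)
    (x : ULift.{u + 1} Λ₂) : (coordHom.{u} b i).hom x = ULift.up (b.repr x.down i) := rfl

theorem homExt {A B : AddCommGrpCat.{u + 1}} {f g : A ⟶ B} (h : ∀ x, f.hom x = g.hom x) : f = g :=
  AddCommGrpCat.hom_ext (AddMonoidHom.ext h)

theorem isExt_ulift [Nontrivial Λ] [Module.Finite Λ Λ₂] [Module.Free Λ Λ₂] :
    IsExt (Λ := Λ) (Λ₂ := Λ₂) (mulHom.{u} Λ) (mulHom.{u} Λ₂) (algHom.{u} Λ Λ₂) := by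
  let b := Module.finBasis Λ Λ₂
  refine ⟨fun r => ?_, _, b, fun i => coordHom b i, fun i j => ?_, ?_⟩
  · refine homExt fun x => ?_
    change (algHom.{u} Λ Λ₂).hom ((mulHom.{u} Λ r).hom x) =
      (mulHom.{u} Λ₂ (algebraMap Λ Λ₂ r)).hom ((algHom.{u} Λ Λ₂).hom x)
    rw [mulHom_apply, algHom_apply, algHom_apply, mulHom_apply, map_mul]
  · refine homExt fun x => ?_
    change (coordHom.{u} b j).hom ((mulHom.{u} Λ₂ (b i)).hom ((algHom.{u} Λ Λ₂).hom x)) = _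
    rw [algHom_apply, mulHom_apply, coordHom_apply]
    have h1 : b i * algebraMap Λ Λ₂ x.down = x.down • b i := by
      rw [Algebra.smul_def, mul_comm]
    have h2 : b.repr (b i * algebraMap Λ Λ₂ x.down) j = if i = j then x.down else 0 := by
      rw [h1, map_smul, b.repr_self, Finsupp.smul_apply, Finsupp.single_apply, smul_eq_mul]
      split_ifs <;> simp
    refine (congrArg ULift.up h2).trans ?_
    split_ifs <;> rfl
  · refine homExt fun x => ?_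
    have h3 : ∀ (t : Finset (Fin (Module.finrank Λ Λ₂))),
        (∑ i ∈ t, coordHom.{u} b i ≫ algHom.{u} Λ Λ₂ ≫ mulHom.{u} Λ₂ (b i)).hom x =
          ULift.up (∑ i ∈ t, b.repr x.down i • b i) := by
      intro t
      classical
      induction t using Finset.induction_on with
      | empty => rw [Finset.sum_empty, Finset.sum_empty]; rfl
      | insert a t ha ih =>
        rw [Finset.sum_insert ha, Finset.sum_insert ha]
        change (mulHom.{u} Λ₂ (b a)).hom ((algHom.{u} Λ Λ₂).hom ((coordHom.{u} b a).hom x)) +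
          (∑ i ∈ t, coordHom.{u} b i ≫ algHom.{u} Λ Λ₂ ≫ mulHom.{u} Λ₂ (b i)).hom x = _
        rw [ih, coordHom_apply, algHom_apply, mulHom_apply]
        refine congrArg ULift.up ?_
        change b a * algebraMap Λ Λ₂ (b.repr x.down a) + _ = _
        rw [Algebra.smul_def, mul_comm]
    refine (h3 Finset.univ).trans ?_
    rw [b.sum_repr]
    rfl

/-- `Λ_Y ⊗_Λ Λ₂ = (Λ₂)_Y`. -/
theorem isExtSh_constLam [Nontrivial Λ] [Module.Finite Λ Λ₂] [Module.Free Λ Λ₂]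
    (Y : Scheme.{u}) :
    IsExtSh (FinFr.constLam Λ Y) (FinFr.constLam Λ₂ Y)
      ((constantSheaf Y.smallEtaleTopology AddCommGrpCat.{u + 1}).map (algHom.{u} Λ Λ₂)) :=
  IsExt.map isExt_ulift (constantSheaf Y.smallEtaleTopology AddCommGrpCat.{u + 1})

/-- `IsConstOn π L → IsConstOn π (L ⊗_Λ Λ₂)`. -/
theorem isConstOn_of_isExtSh [Nontrivial Λ] [Module.Finite Λ Λ₂] [Module.Free Λ Λ₂]
    {X Y : Scheme.{u}} (π : Y ⟶ X) {L : EtLam.Sheaf Λ X} {L₂ : EtLam.Sheaf Λ₂ X}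
    {s : L.carrier ⟶ L₂.carrier} (h : IsExtSh L L₂ s) (hc : LangSh.IsConstOn π L) :
    LangSh.IsConstOn π L₂ := by
  obtain ⟨e, he⟩ := hc
  have h1 := h.pullback π
  have h2 := IsExt.congr (τ := fun r => ((FinFr.constLam Λ Y).act r : EtCoh.const Y Λ ⟶ EtCoh.const Y Λ))
    (τ₂ := fun c => ((EtLam.pullback π L₂).act c :
      (EtLam.pullback π L₂).carrier ⟶ (EtLam.pullback π L₂).carrier)) h1 e (Iso.refl _) he
    (fun c => by rw [Iso.refl_hom, Category.comp_id, Category.id_comp])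
  obtain ⟨e₂, -, he₂⟩ := IsExt.exists_iso (ρ := (FinFr.constLam Λ Y).act)
    (ρ₂ := (EtLam.pullback π L₂).act) (β := (FinFr.constLam Λ₂ Y).act) h2 (isExtSh_constLam Y)
  exact ⟨e₂, he₂⟩

end Const

section Coh

variable {Λ Λ₂ : Type} [Field Λ] [Field Λ₂] [Algebra Λ Λ₂]

/-- The dimension of the cohomology of `L ⊗_Λ Λ₂`. -/
theorem finrank_eq {X : Scheme.{u}} {L : EtLam.Sheaf Λ X} {L₂ : EtLam.Sheaf Λ₂ X}
    {s : L.carrier ⟶ L₂.carrier} (h : IsExtSh L L₂ s) (n : ℕ) :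
    Module.finrank Λ₂ (EtCoh.H X L₂.carrier n) = Module.finrank Λ (EtCoh.H X L.carrier n) := by
  obtain ⟨e, -⟩ := (h.isExtMod n).exists_equiv
  rw [← e.finrank_eq, Module.finrank_baseChange]

theorem subsingleton_of_isExtSh {X : Scheme.{u}} {L : EtLam.Sheaf Λ X} {L₂ : EtLam.Sheaf Λ₂ X}
    {s : L.carrier ⟶ L₂.carrier} (h : IsExtSh L L₂ s) (n : ℕ)
    (h2 : Subsingleton (EtCoh.H X L₂.carrier n)) : Subsingleton (EtCoh.H X L.carrier n) := by
  obtain ⟨e, -⟩ := (h.isExtMod n).exists_equiv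
  have h3 : Subsingleton (TensorProduct Λ Λ₂ (EtCoh.H X L.carrier n)) := e.injective.subsingleton
  exact (Module.FaithfullyFlat.subsingleton_tensorProduct_iff_right Λ Λ₂).1 h3

/-- Cohomology with compact support through `j : X₀ ⟶ P₀`, pulled back along any `g`. -/
theorem finrank_extZeroLam_eq {X₀ P₀ P : Scheme.{u}} {L : EtLam.Sheaf Λ X₀}
    {L₂ : EtLam.Sheaf Λ₂ X₀} {s : L.carrier ⟶ L₂.carrier} (h : IsExtSh L L₂ s) (j : X₀ ⟶ P₀)
    [IsOpenImmersion j] (g : P ⟶ P₀) (n : ℕ) :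
    Module.finrank Λ₂ (EtCoh.H P (EtLam.pullback g (FinFr.extZeroLam j L₂)).carrier n) =
      Module.finrank Λ (EtCoh.H P (EtLam.pullback g (FinFr.extZeroLam j L)).carrier n) :=
  finrank_eq ((h.extZeroLam j).pullback g) n

theorem subsingleton_extZeroLam {X₀ P₀ P : Scheme.{u}} {L : EtLam.Sheaf Λ X₀}
    {L₂ : EtLam.Sheaf Λ₂ X₀} {s : L.carrier ⟶ L₂.carrier} (h : IsExtSh L L₂ s) (j : X₀ ⟶ P₀)
    [IsOpenImmersion j] (g : P ⟶ P₀) (n : ℕ)
    (h2 : Subsingleton (EtCoh.H P (EtLam.pullback g (FinFr.extZeroLam j L₂)).carrier n)) :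
    Subsingleton (EtCoh.H P (EtLam.pullback g (FinFr.extZeroLam j L)).carrier n) :=
  subsingleton_of_isExtSh ((h.extZeroLam j).pullback g) n h2

end Coh

section Trace

variable {k : Type u} [Field k] {K : Type u} [Field K] [Algebra k K]
  [Algebra.IsAlgebraic k K] [Fact FinFr.PullExact.{u}]
variable {Λ Λ₂ : Type} [Field Λ] [Field Λ₂] [Algebra Λ Λ₂]
variable {R : Type u} [CommRing R] [Algebra k R]

/-- The trace function of `L ⊗_Λ Λ₂`. -/
theorem hasTraceFun_of_isExtSh {L : EtLam.Sheaf Λ (Spec (CommRingCat.of R))}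
    {L₂ : EtLam.Sheaf Λ₂ (Spec (CommRingCat.of R))} {s : L.carrier ⟶ L₂.carrier}
    (h : IsExtSh L L₂ s) (t : ∀ E : IntermediateField k K, (R →ₐ[k] E) → Λ)
    (t₂ : ∀ E : IntermediateField k K, (R →ₐ[k] E) → Λ₂)
    (ht : ∀ E x, t₂ E x = algebraMap Λ Λ₂ (t E x)) (hL : LangSh.HasTraceFun k K L t) :
    LangSh.HasTraceFun k K L₂ t₂ := by
  intro E _ x
  rw [ht]
  have h1 := hL E x
  have : Algebra.IsAlgebraic E K := Algebra.IsAlgebraic.tower_top (K := k) E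
  exact (locTrace_eq h (LangSh.pt x)).trans (congrArg (algebraMap Λ Λ₂) h1)

variable [Fintype k] [Finite Λ] [Finite Λ₂]

variable (Λ₂)

omit [Fact FinFr.PullExact.{u}] in
theorem exists_isExtSh' {X : Scheme.{u}} (L : EtLam.Sheaf Λ X) :
    ∃ (L₂ : EtLam.Sheaf Λ₂ X) (s : L.carrier ⟶ L₂.carrier), IsExtSh L L₂ s :=
  have : Module.Finite Λ Λ₂ := Module.Finite.of_finite
  exists_isExtSh L

/-- Extension of coefficients of a multi-Kummer sheaf. -/
theorem exists_kumFam {N : ℕ} (χ : Fin N → MulChar k Λ) (u : Fin N → Rˣ)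
    (L : EtLam.Sheaf Λ (Spec (CommRingCat.of R))) (hL : LangSh.IsKumFamSheaf K χ u L) :
    ∃ (L₂ : EtLam.Sheaf Λ₂ (Spec (CommRingCat.of R))) (s : L.carrier ⟶ L₂.carrier),
      IsExtSh L L₂ s ∧
      LangSh.IsKumFamSheaf K (fun i => (χ i).ringHomComp (algebraMap Λ Λ₂)) u L₂ := by
  have : Module.Finite Λ Λ₂ := Module.Finite.of_finite
  obtain ⟨L₂, s, h⟩ := exists_isExtSh' Λ₂ L
  refine ⟨L₂, s, h, isConstOn_of_isExtSh _ h hL.1, hasTraceFun_of_isExtSh h _ _ ?_ hL.2⟩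
  intro E x
  rw [map_prod]
  rfl

/-- `exists_kumFam` with the effect on the cohomology through any compactification. -/
theorem exists_kumFam' {N : ℕ} (χ : Fin N → MulChar k Λ) (u : Fin N → Rˣ)
    (L : EtLam.Sheaf Λ (Spec (CommRingCat.of R))) (hL : LangSh.IsKumFamSheaf K χ u L) :
    ∃ L₂ : EtLam.Sheaf Λ₂ (Spec (CommRingCat.of R)),
      LangSh.IsKumFamSheaf K (fun i => (χ i).ringHomComp (algebraMap Λ Λ₂)) u L₂ ∧
      ∀ {P₀ : Scheme.{u}} (j : Spec (CommRingCat.of R) ⟶ P₀) [IsOpenImmersion j]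
        (b : P₀ ⟶ Spec (CommRingCat.of k)) (n : ℕ),
        Module.finrank Λ₂ (EtCoh.H (FinFr.ext K b)
            (EtLam.pullback (FinFr.extπ K b) (FinFr.extZeroLam j L₂)).carrier n) =
          Module.finrank Λ (EtCoh.H (FinFr.ext K b)
            (EtLam.pullback (FinFr.extπ K b) (FinFr.extZeroLam j L)).carrier n) ∧
        (Subsingleton (EtCoh.H (FinFr.ext K b)
            (EtLam.pullback (FinFr.extπ K b) (FinFr.extZeroLam j L₂)).carrier n) →
          Subsingleton (EtCoh.H (FinFr.ext K b)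
            (EtLam.pullback (FinFr.extπ K b) (FinFr.extZeroLam j L)).carrier n)) := by
  obtain ⟨L₂, s, h, h2⟩ := exists_kumFam (K := K) Λ₂ χ u L hL
  exact ⟨L₂, h2, fun j _ b n => ⟨finrank_extZeroLam_eq h j (FinFr.extπ K b) n,
    subsingleton_extZeroLam h j (FinFr.extπ K b) n⟩⟩

/-- Extension of coefficients of an Artin–Schreier sheaf. -/
theorem exists_as (ψ : AddChar k Λ) (g : R)
    (L : EtLam.Sheaf Λ (Spec (CommRingCat.of R))) (hL : LangSh.IsASSheaf K ψ g L) :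
    ∃ (L₂ : EtLam.Sheaf Λ₂ (Spec (CommRingCat.of R))) (s : L.carrier ⟶ L₂.carrier),
      IsExtSh L L₂ s ∧
      LangSh.IsASSheaf K ((algebraMap Λ Λ₂ : Λ →* Λ₂).compAddChar ψ) g L₂ := by
  have : Module.Finite Λ Λ₂ := Module.Finite.of_finite
  obtain ⟨L₂, s, h⟩ := exists_isExtSh' Λ₂ L
  exact ⟨L₂, s, h, isConstOn_of_isExtSh _ h hL.1,
    hasTraceFun_of_isExtSh h _ _ (fun E x => rfl) hL.2⟩

/-- Extension of coefficients of a Kummer sheaf. -/
theorem exists_kum (χ : MulChar k Λ) (u : Rˣ)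
    (L : EtLam.Sheaf Λ (Spec (CommRingCat.of R))) (hL : LangSh.IsKumSheaf K χ u L) :
    ∃ (L₂ : EtLam.Sheaf Λ₂ (Spec (CommRingCat.of R))) (s : L.carrier ⟶ L₂.carrier),
      IsExtSh L L₂ s ∧
      LangSh.IsKumSheaf K (χ.ringHomComp (algebraMap Λ Λ₂)) u L₂ := by
  have : Module.Finite Λ Λ₂ := Module.Finite.of_finite
  obtain ⟨L₂, s, h⟩ := exists_isExtSh' Λ₂ L
  exact ⟨L₂, s, h, isConstOn_of_isExtSh _ h hL.1,
    hasTraceFun_of_isExtSh h _ _ (fun E x => rfl) hL.2⟩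

/-- Extension of coefficients of an Artin–Schreier–Kummer sheaf. -/
theorem exists_ask (ψ : AddChar k Λ) (g : R) (χ : MulChar k Λ) (u : Rˣ)
    (L : EtLam.Sheaf Λ (Spec (CommRingCat.of R))) (hL : LangSh.IsASKSheaf K ψ g χ u L) :
    ∃ (L₂ : EtLam.Sheaf Λ₂ (Spec (CommRingCat.of R))) (s : L.carrier ⟶ L₂.carrier),
      IsExtSh L L₂ s ∧
      LangSh.IsASKSheaf K ((algebraMap Λ Λ₂ : Λ →* Λ₂).compAddChar ψ) g
        (χ.ringHomComp (algebraMap Λ Λ₂)) u L₂ := by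
  have : Module.Finite Λ Λ₂ := Module.Finite.of_finite
  obtain ⟨L₂, s, h⟩ := exists_isExtSh' Λ₂ L
  exact ⟨L₂, s, h, isConstOn_of_isExtSh _ h hL.1,
    hasTraceFun_of_isExtSh h _ _ (fun E x => by rw [map_mul]; rfl) hL.2⟩

end Trace

end Groth.Agent.Sga4h.H407.CoeffKum
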