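import Groth.Agent.Sga4h.H918.Lang
import Groth.Agent.Sga4h.H918.SpecCov
import Groth.Agent.Sga4h.H918.ConnAlg
import Groth.Agent.Sga4h.H768.ConnGen
import Mathlib.RingTheory.Henselian

/-!
# Sheaves without global sections over punctured strict localizations of a curve

* `eq_zero`: a sheaf with a nontrivial character on a connected covering has no global section;
* `eq_zero_inf`: `F_θ(w⁻¹, w⁻¹)` over the fraction field of a normal local domain, `w` a uniformizer, `θ ≠ 1`;
* `eq_zero_orig`: `F_θ(w, w)`, henselian, `θ` nontrivial on `k^*`.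
-/

set_option autoImplicit false
universe u

open CategoryTheory CategoryTheory.Limits AlgebraicGeometry Polynomial Opposite

namespace Groth.Agent.Sga4h.H407.NoSec

open Groth.Agent.Etbase Groth.Agent.Etcore Groth.Agent.EtpbcA Groth.Agent.Etcore.LVan
open Groth.Agent.Sga4h.H918.Gen Groth.Agent.Sga4h.H918.Ask Groth.Agent.Sga4h.H918.Lang
open Groth.Agent.Sga4h.H918.Root Groth.Agent.Sga4h.H918.SpecCov Groth.Agent.Sga4h.H768.ConnGen

section General

variable {Λ : Type (u + 1)} [CommRing Λ] [IsDomain Λ] {X : Scheme.{u}}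

/-- A sheaf with a nontrivial character on a connected covering has no global section. -/
theorem eq_zero {L : EtModW.Mod Λ X} {T : X.Etale} {G : Type*} {act : G → (T ⟶ T)} {θ : G → Λ}
    (h : HasGen L T act θ) {T' : X.Etale} [ConnectedSpace (show Scheme.{u} from T'.left)]
    (hT' : ∀ x : X, ∃ t : T'.left, T'.hom t = x) (π : T' ⟶ T) (a : T' ⟶ T') (g : G)
    (ha : a ≫ π = π ≫ act g) (hg : θ g ≠ 1) (m : EtModW.sect Λ L (EtCoh.top X)) : m = 0 := by
  obtain ⟨s, hs, hs2⟩ := h
  let i : T' ⟶ EtCoh.top X := Groth.Agent.Sga5.H835.InvRes.toTop T'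
  have hs' : IsGen L (res L π s) := hs.res π
  obtain ⟨r, hr⟩ := exists_smul_eq hs' (res L i m)
  have hai : a ≫ i = i := MorphismProperty.Over.Hom.ext (MorphismProperty.Over.w a)
  have h1 : res L a (res L i m) = res L i m := by rw [← res_comp, hai]
  have h2 : res L a (res L π s) = θ g • res L π s := by
    rw [← res_comp, ha, res_comp, hs2, map_smul]
  obtain ⟨y⟩ := (inferInstance : Nonempty (show Scheme.{u} from T'.left))
  rw [hr, map_smul, h2, smul_smul] at h1
  have h3 : r * θ g = r := smul_inj hs' y h1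
  have h4 : r = 0 := by
    by_contra h0
    exact hg (mul_left_cancel₀ h0 (h3.trans (mul_one r).symm))
  refine sect_ext' L fun x => ?_
  obtain ⟨t, ht⟩ := hT' x
  refine ⟨T', i, t, ht, ?_⟩
  rw [hr, h4, zero_smul, map_zero]

end General

section Field

variable {k : Type*} [Field k] [Fintype k] {Λ : Type (u + 1)} [CommRing Λ] [IsDomain Λ]
variable {V : Type u} [CommRing V] [IsDomain V] {M : Type u} [Field M] [Algebra V M]
  [IsFractionRing V M] {w : V}

/-- `F_θ(w⁻¹, w⁻¹)` has no sections. -/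
theorem eq_zero_inf [IsIntegrallyClosed V] {P : Ideal V} [P.IsPrime] (hw : w ∈ P) (hw2 : w ∉ P ^ 2)
    (ρ : k →+* Γ(Spec (CommRingCat.of M), ⊤)) (θ : GG k →* Λˣ) (hθ : θ ≠ 1)
    {f : Γ(Spec (CommRingCat.of M), ⊤)} (hf : f = gm M (algebraMap V M w)⁻¹) (hu : IsUnit f)
    (m : EtModW.sect Λ (F ρ θ f f hu) (EtCoh.top _)) : m = 0 := by
  let T : Tor ρ f f := tor ρ f f hu
  have h1 := isASK_spec (R := M) (Fintype.card k) (algebraMap V M w)⁻¹ (algebraMap V M w)⁻¹
  rw [← hf] at h1
  obtain ⟨e, -, -, -⟩ := nonempty_iso_of_isASK T.isASK h1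
  have hdom : IsDomain (LangSh.ASKAlg M (Fintype.card k) (algebraMap V M w)⁻¹ (Fintype.card k - 1)
      (algebraMap V M w)⁻¹) :=
    Groth.Agent.Sga4h.H918.ConnAlg.isDomain_ask hw hw2 (RingHom.id M) Function.injective_id _ rfl _
      Fintype.one_lt_card
  have hirr : IrreducibleSpace (Spec (CommRingCat.of (LangSh.ASKAlg M (Fintype.card k)
      (algebraMap V M w)⁻¹ (Fintype.card k - 1) (algebraMap V M w)⁻¹))) :=
    inferInstanceAs (IrreducibleSpace (PrimeSpectrum _))
  have hconn : ConnectedSpace (show Scheme.{u} from T.T.left) :=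
    (Scheme.homeoOfIso e).symm.surjective.connectedSpace (Scheme.homeoOfIso e).symm.continuous
  obtain ⟨g, hg⟩ : ∃ g, θ g ≠ 1 := by
    by_contra h
    exact hθ (MonoidHom.ext fun g => not_not.1 fun hg => h ⟨g, hg⟩)
  exact eq_zero (hasGen_F T θ) T.surj (𝟙 _) (T.act g) g
    ((Category.comp_id _).trans (Category.id_comp _).symm) (fun h => hg (Units.ext h)) m

omit [IsDomain V] in
/-- The Artin–Schreier equation `z ^ q - z = w` over a henselian local ring. -/
theorem exists_root [HenselianLocalRing V] (hw : w ∈ IsLocalRing.maximalIdeal V) (q : ℕ)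
    (hq : 2 ≤ q) : ∃ z : V, z ^ q - z = w := by
  have hmon : (X ^ q - X - C w : V[X]).Monic := by
    rw [sub_sub]
    apply monic_X_pow_sub
    refine (degree_add_le _ _).trans_lt (max_lt ?_ ?_)
    · refine degree_X_le.trans_lt ?_
      exact_mod_cast (show 1 < q by omega)
    · refine degree_C_le.trans_lt ?_
      exact_mod_cast (show 0 < q by omega)
  obtain ⟨z, hz, -⟩ := HenselianLocalRing.is_henselian (X ^ q - X - C w : V[X]) hmon 0 (by
      rw [eval_sub, eval_sub, eval_pow, eval_X, eval_C, zero_pow (by omega), sub_zero, zero_sub]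
      exact neg_mem hw) (by
      rw [derivative_sub, derivative_sub, derivative_X_pow, derivative_X, derivative_C, sub_zero,
        eval_sub, eval_mul, eval_pow, eval_X, eval_one, zero_pow (by omega), mul_zero, zero_sub]
      exact isUnit_one.neg)
  refine ⟨z, ?_⟩
  rw [IsRoot.def, eval_sub, eval_sub, eval_pow, eval_X, eval_C, sub_eq_zero] at hz
  exact hz

/-- `F_θ(w, w)` has no sections. -/
theorem eq_zero_orig [IsIntegrallyClosed V] [HenselianLocalRing V]
    (hw : w ∈ IsLocalRing.maximalIdeal V) (hw2 : w ∉ IsLocalRing.maximalIdeal V ^ 2)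
    (ρ : k →+* Γ(Spec (CommRingCat.of M), ⊤)) (θ : GG k →* Λˣ) (d : kˣ) (hθ : θ (1, d) ≠ 1)
    {f : Γ(Spec (CommRingCat.of M), ⊤)} (hf : f = gm M (algebraMap V M w)) (hu : IsUnit f)
    (m : EtModW.sect Λ (F ρ θ f f hu) (EtCoh.top _)) : m = 0 := by
  let T : Tor ρ f f := tor ρ f f hu
  obtain ⟨z₀, hz₀⟩ := exists_root hw (Fintype.card k) Fintype.one_lt_card
  let w' : M := algebraMap V M w
  let q : ℕ := Fintype.card k
  let B : Type u := AdjoinRoot (X ^ (q - 1) - C w' : M[X])
  have hdom : IsDomain B :=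
    Groth.Agent.Sga4h.H918.ConnAlg.isDomain_kum hw hw2 (RingHom.id M) Function.injective_id _ rfl _
      (Nat.sub_ne_zero_of_lt Fintype.one_lt_card)
  have hw0 : w' ≠ 0 := by
    intro h
    have h1 : w = 0 := (IsFractionRing.injective V M) (h.trans (map_zero _).symm)
    exact hw2 (h1 ▸ zero_mem _)
  have ρM : k →+* M := (Scheme.ΓSpecIso (CommRingCat.of M)).hom.hom.comp ρ
  have het : Algebra.Etale M B :=
    Hensel.FiniteEtaleLift.etale_adjoinRoot _ (monic_PB w') (separable_PB ρM w' hw0.isUnit)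
  let p : Spec (CommRingCat.of B) ⟶ Spec (CommRingCat.of M) :=
    Spec.map (CommRingCat.ofHom (AdjoinRoot.of (X ^ (q - 1) - C w' : M[X])))
  have hp : Etale p := by
    have h3 : RingHom.Etale (algebraMap M B) := RingHom.etale_algebraMap.2 het
    exact (HasRingHomProperty.Spec_iff (P := @Etale)).2 h3
  let T' : (Spec (CommRingCat.of M)).Etale := Scheme.Etale.mk p
  have hirr : IrreducibleSpace (Spec (CommRingCat.of B)) :=
    inferInstanceAs (IrreducibleSpace (PrimeSpectrum B))
  have hconn : ConnectedSpace (show Scheme.{u} from T'.left) :=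
    inferInstanceAs (ConnectedSpace (Spec (CommRingCat.of B)))
  have hR : IsRoot p (PB q f) (gm B (AdjoinRoot.root _)) := by
    have h := isRoot_spec (X ^ (q - 1) - C w' : M[X])
    have e : (X ^ (q - 1) - C w' : M[X]).map (gm M) = PB q f := by
      rw [Polynomial.map_sub, Polynomial.map_pow, map_X, map_C, hf]
    rw [e] at h
    exact h
  have hsurj : ∀ x : Spec (CommRingCat.of M), ∃ t : T'.left, T'.hom t = x := by
    have : Nontrivial Γ(Spec (CommRingCat.of M), ⊤) :=
      (Scheme.ΓSpecIso (CommRingCat.of M)).hom.hom.domain_nontrivial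
    exact hR.surjective (monic_PB f) (natDegree_PB f)
  let y₀ : Γ(T'.left, ⊤) := gm B (AdjoinRoot.root _)
  have hy₀ : y₀ ^ (q - 1) = fb T' f := (eval_PB _ _ _ _).1 hR.eval_eq
  obtain ⟨π, hπ1, hπ2⟩ := T.exists_hom T' (fb T' (gm M (algebraMap V M z₀))) y₀ (by
    rw [← map_pow, ← map_pow, ← map_pow, ← map_sub, ← map_sub, ← map_sub, hz₀, hf]) hy₀
  obtain ⟨a, ha1⟩ : ∃ a : T' ⟶ T', pb a y₀ = Tor.cst ρ T' (d : k) * y₀ := by
    have h5 : (Tor.cst ρ T' (d : k) * y₀) ^ (q - 1) = fb T' f := by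
      rw [mul_pow, ← map_pow, FiniteField.pow_card_sub_one_eq_one _ d.ne_zero, map_one, one_mul]
      exact hy₀
    obtain ⟨a, ha1, ha2⟩ := hR.exists_lift p (Tor.cst ρ T' (d : k) * y₀) ((eval_PB _ _ _ _).2 h5)
    exact ⟨MorphismProperty.Over.homMk a ha1, ha2⟩
  refine eq_zero (hasGen_F T θ) hsurj π a (1, d) ?_ (fun h => hθ (Units.ext h)) m
  apply T.hom_ext
  · rw [pb_comp, pb_comp, hπ1, T.act_z, map_add, hπ1, pb_fb, Tor.pb_cst]
    change _ = _ + Tor.cst ρ T' (0 : k)
    rw [map_zero, add_zero]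
  · rw [pb_comp, pb_comp, hπ2, T.act_y, map_mul, hπ2, Tor.pb_cst, ha1]

end Field

end Groth.Agent.Sga4h.H407.NoSec
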